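import Cfsg.Agent.Lib.Fischer.X22.R0

set_option autoImplicit false
set_option maxRecDepth 100000

namespace Cfsg.Agent.Fi.X22

open Cfsg.Agent.PC

theorem h0 : ∀ i < 3510, f i = 0 := by
  have h := zero_lt_zero f
  have h := zero_lt_add (a := (nat_lit 0)) (n := (nat_lit 2000)) (b := (nat_lit 2000)) h r0 rfl
  have h := zero_lt_add (a := (nat_lit 2000)) (n := (nat_lit 1510)) (b := (nat_lit 3510)) h r2000 rfl
  exact h
theorem dsc : Dsc T P V 3510 16 5 := dsc_of fun c hc => (add_eq_zero' (h0 c hc)).2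
theorem T_eq : ∀ j < 10, C22.T j = T j := by
  intro j hj
  refine getL_congr (t := C22.tt) (t' := tt) (w := (nat_lit 36)) (mask := (nat_lit 4095)) (j := j) (by omega) ?_
  interval_cases j <;> rfl
theorem fd {G : Type*} [Group G] {D : Set G} {P0 : ℕ → ℕ} {pt : ℕ → G} (F : FD D C22.T P0 3510 10 pt)
    (h : ∀ j < 10, P0 j = P j) : FD D T P 3510 16 pt :=
  F.ext T_eq h (A := A) (L := L) (by decide +kernel) fun c hc => (add_eq_zero' (h0 c hc)).1

end Cfsg.Agent.Fi.X22
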